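import Cfsg.Agent.Zsigmondy.Basic
import Mathlib.FieldTheory.Finite.Basic

/-!
# A primitive prime of `2 ^ (2 m) - 1` excludes the small socles
-/

set_option autoImplicit false

namespace CfsgLib.CITAlmost

theorem dvd_gcd_pow {r a b : ℕ} (ha : r ∣ 2 ^ a - 1) (hb : r ∣ 2 ^ b - 1) :
    r ∣ 2 ^ Nat.gcd a b - 1 := by
  rw [← Nat.pow_sub_one_gcd_pow_sub_one]
  exact Nat.dvd_gcd ha hb

/-- A primitive prime for the exponent `n`. -/
structure Primitive (n r : ℕ) : Prop where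
  prime : r.Prime
  dvd : r ∣ 2 ^ n - 1
  le : ∀ k : ℕ, 0 < k → k < n → ¬ r ∣ 2 ^ k - 1

theorem exists_primitive {n : ℕ} (hn : 3 ≤ n) (h6 : n ≠ 6) : ∃ r, Primitive n r := by
  obtain ⟨r, h1, h2, h3⟩ := CfsgLib.Zsigmondy.exists_primitive_prime 2 n one_lt_two (by omega)
    (fun h => h6 h.2) (fun h => by omega)
  exact ⟨r, h1, h2, h3⟩

theorem Primitive.dvd_exponent {n r j : ℕ} (h : Primitive n r) (hn : 0 < n) (hj : r ∣ 2 ^ j - 1) :
    n ∣ j := by
  have hg := dvd_gcd_pow h.dvd hj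
  have h0 : 0 < Nat.gcd n j := Nat.gcd_pos_of_pos_left _ hn
  rcases (Nat.gcd_le_left j hn).lt_or_eq with hlt | he
  · exact absurd hg (h.le _ h0 hlt)
  · exact he ▸ Nat.gcd_dvd_right n j

theorem Primitive.two_lt {n r : ℕ} (h : Primitive n r) (hn : 1 ≤ n) : 2 < r := by
  rcases h.prime.two_le.lt_or_eq with h' | h'
  · exact h'
  · subst h'
    obtain ⟨c, hc⟩ := h.dvd
    obtain ⟨n', rfl⟩ : ∃ n', n = n' + 1 := ⟨n - 1, by omega⟩
    rw [pow_succ] at hc
    have := Nat.one_le_two_pow (n := n')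
    omega

theorem Primitive.succ_le {n r : ℕ} (h : Primitive n r) (hn : 1 ≤ n) : n + 1 ≤ r := by
  haveI := Fact.mk h.prime
  have h2 := h.two_lt hn
  have hco : (2 : ℕ).Coprime r := (Nat.coprime_primes Nat.prime_two h.prime).2 (by omega)
  have hf : 2 ^ (r - 1) ≡ 1 [MOD r] := by
    have := Nat.ModEq.pow_totient hco
    rwa [Nat.totient_prime h.prime] at this
  have := Nat.le_of_dvd (by omega) (h.dvd_exponent (by omega)
    ((Nat.modEq_iff_dvd' Nat.one_le_two_pow).1 hf.symm))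
  omega

theorem Primitive.eleven_le {m r : ℕ} (h : Primitive (2 * m) r) (hm : 4 ≤ m) : 11 ≤ r := by
  have := h.succ_le (by omega)
  rcases (show r = 9 ∨ r = 10 ∨ 11 ≤ r by omega) with e | e | e
  · exact absurd (e ▸ h.prime) (by norm_num)
  · exact absurd (e ▸ h.prime) (by norm_num)
  · exact e

theorem dvd_sub_one_of_dvd_add_one {r j : ℕ} (h : r ∣ 2 ^ j + 1) : r ∣ 2 ^ (2 * j) - 1 := by
  have h1 : (2 ^ j + 1) * (2 ^ j - 1) = 2 ^ (2 * j) - 1 := by
    rw [← Nat.sq_sub_sq, ← pow_mul, one_pow, Nat.mul_comm j 2]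
  exact h1 ▸ h.mul_right _

theorem not_three_dvd_suzuki (f : ℕ) :
    ¬ 3 ∣ (2 ^ (2 * f + 1)) ^ 2 * ((2 ^ (2 * f + 1)) ^ 2 + 1) * (2 ^ (2 * f + 1) - 1) := by
  have h : 2 ^ (2 * f + 1) % 3 = 2 := by
    rw [pow_succ, pow_mul, Nat.mul_mod, Nat.pow_mod]
    norm_num
  generalize 2 ^ (2 * f + 1) = q at h ⊢
  intro hd
  rcases (Nat.Prime.dvd_mul (by norm_num : Nat.Prime 3)).1 hd with hd | hd
  · rcases (Nat.Prime.dvd_mul (by norm_num : Nat.Prime 3)).1 hd with hd | hd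
    · have := (by norm_num : Nat.Prime 3).dvd_of_dvd_pow hd
      omega
    · rw [Nat.dvd_iff_mod_eq_zero, Nat.add_mod, Nat.pow_mod, h] at hd
      norm_num at hd
  · omega

theorem three_dvd_four_pow (m : ℕ) : 3 ∣ 2 ^ (2 * m) - 1 := by
  rw [pow_mul]
  simpa using Nat.sub_dvd_pow_sub_pow 4 1 m

/-- A primitive prime of `2 ^ (2 m) - 1` divides `2 ^ (2 k) - 1` and conversely: `k = m`. -/
theorem eq_of_same_primes {m k : ℕ} (hm : 4 ≤ m) (hk : 1 ≤ k)
    (h1 : ∀ r : ℕ, r.Prime → r ∣ 2 ^ (2 * m) - 1 → r ∣ 2 ^ (2 * k) - 1)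
    (h2 : ∀ r : ℕ, r.Prime → r ∣ 2 ^ (2 * k) - 1 → r ∣ 2 ^ (2 * m) - 1) : k = m := by
  obtain ⟨r, hr⟩ := exists_primitive (n := 2 * m) (by omega) (by omega)
  have hmk := Nat.le_of_dvd (by omega) (hr.dvd_exponent (by omega) (h1 r hr.prime hr.dvd))
  obtain ⟨s, hs⟩ := exists_primitive (n := 2 * k) (by omega) (by omega)
  have hkm := Nat.le_of_dvd (by omega) (hs.dvd_exponent (by omega) (h2 s hs.prime hs.dvd))
  omega

/-- No prime `p = 2 ^ k + 1` gives a socle with the primes of `PSL₂(2 ^ m)`. -/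
theorem false_of_fermat {m k p : ℕ} (hm : 4 ≤ m) (hp : p.Prime) (hpk : p = 2 ^ k + 1)
    (hsub : ∀ r : ℕ, r.Prime → r ∣ 2 ^ (2 * m) - 1 → r ∣ p * (p ^ 2 - 1))
    (hpm : p ∣ 2 ^ (2 * m) - 1) : False := by
  have hk0 : 0 < k := by
    rcases Nat.eq_zero_or_pos k with rfl | hk
    · obtain ⟨c, hc⟩ := hpk ▸ hpm
      have h1 : 2 ^ (2 * m) = 2 ^ (2 * m - 1) * 2 := by rw [← pow_succ]; congr 1; omega
      have := Nat.one_le_two_pow (n := 2 * m - 1)
      norm_num at hc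
      omega
    · exact hk
  have hfac : ∀ r : ℕ, r.Prime → 2 < r → r ∣ p * (p ^ 2 - 1) →
      r = p ∨ (2 ≤ k ∧ r ∣ 2 ^ (k - 1) + 1) := by
    intro r hr hr2 hd
    rcases (Nat.Prime.dvd_mul hr).1 hd with hd | hd
    · exact Or.inl ((Nat.prime_dvd_prime_iff_eq hr hp).1 hd)
    right
    rcases (show k = 1 ∨ 2 ≤ k by omega) with rfl | hk
    · rw [hpk] at hd; norm_num at hd
      have := Nat.le_of_dvd (by norm_num) hd
      interval_cases r <;> (revert hr hd; norm_num)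
    · refine ⟨hk, ?_⟩
      obtain ⟨j, rfl⟩ : ∃ j, k = j + 1 := ⟨k - 1, by omega⟩
      have he : p ^ 2 - 1 = 2 ^ (j + 2) * (2 ^ j + 1) := by
        apply Nat.sub_eq_of_eq_add
        rw [hpk]; ring
      rw [he] at hd
      rcases (Nat.Prime.dvd_mul hr).1 hd with hd | hd
      · have := (Nat.prime_dvd_prime_iff_eq hr Nat.prime_two).1 (hr.dvd_of_dvd_pow hd)
        omega
      · simpa using hd
  obtain ⟨ρ, hρ⟩ := exists_primitive (n := 2 * m) (by omega) (by omega)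
  have hpk2 : p ∣ 2 ^ (2 * k) - 1 := dvd_sub_one_of_dvd_add_one (hpk ▸ dvd_rfl)
  have hkm : k ∣ m := by
    have hg := dvd_gcd_pow hpm hpk2
    rw [Nat.gcd_mul_left] at hg
    have hgk : Nat.gcd m k ∣ k := Nat.gcd_dvd_right m k
    rcases (Nat.le_of_dvd hk0 hgk).lt_or_eq with hlt | he
    · obtain ⟨c, hc⟩ := hgk
      have hc2 : 2 ≤ c := by
        rcases (show c = 0 ∨ c = 1 ∨ 2 ≤ c by omega) with rfl | rfl | h
        · omega
        · omega
        · exact h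
      have hle : 2 ^ (2 * Nat.gcd m k) ≤ 2 ^ k := Nat.pow_le_pow_right two_pos (by nlinarith)
      have hgpos : 0 < Nat.gcd m k := Nat.gcd_pos_of_pos_left _ (by omega)
      have h4 : 2 ≤ 2 ^ (2 * Nat.gcd m k) := Nat.le_self_pow (by omega) 2
      have := Nat.le_of_dvd (by omega) hg
      omega
    · exact he ▸ Nat.gcd_dvd_left m k
  rcases hfac ρ hρ.prime (hρ.two_lt (by omega)) (hsub ρ hρ.prime hρ.dvd) with he | ⟨hk2, hd⟩
  · -- then `k = m`, and a prime of `2 ^ m - 1` is missing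
    have hmk := hρ.dvd_exponent (by omega) (he ▸ hpk2)
    have hkeq : k = m := Nat.dvd_antisymm hkm (Nat.dvd_of_mul_dvd_mul_left two_pos hmk)
    subst hkeq
    have h6 : k ≠ 6 := by rintro rfl; rw [hpk] at hp; norm_num at hp
    obtain ⟨s, hs⟩ := exists_primitive (n := k) (by omega) h6
    have hsd : s ∣ 2 ^ (2 * k) - 1 := hs.dvd.trans (Nat.pow_sub_one_dvd_pow_sub_one 2 (dvd_mul_left k 2))
    rcases hfac s hs.prime (hs.two_lt (by omega)) (hsub s hs.prime hsd) with e | ⟨-, hd'⟩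
    · have hsd2 := hs.dvd
      rw [e, hpk] at hsd2
      have h4 : 2 ≤ 2 ^ k := Nat.le_self_pow (by omega) 2
      have := Nat.le_of_dvd (by omega) hsd2
      omega
    · have h3 := Nat.dvd_gcd (dvd_refl k) (hs.dvd_exponent (by omega) (dvd_sub_one_of_dvd_add_one hd'))
      have hco : Nat.Coprime k (k - 1) := by
        obtain ⟨j, rfl⟩ : ∃ j, k = j + 1 := ⟨k - 1, by omega⟩
        simp
      rw [Nat.Coprime.gcd_mul_right_cancel_right 2 hco.symm] at h3
      have := Nat.le_of_dvd (Nat.gcd_pos_of_pos_left _ (by omega)) h3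
      have := Nat.gcd_le_right k two_pos
      omega
  · have h3 := Nat.le_of_dvd (by omega) (hρ.dvd_exponent (by omega) (dvd_sub_one_of_dvd_add_one hd))
    have := Nat.le_of_dvd (by omega) hkm
    omega

/-- No prime `p = 2 ^ k - 1` gives a socle with the primes of `PSL₂(2 ^ m)`. -/
theorem false_of_mersenne {m k p : ℕ} (hm : 4 ≤ m) (hp : p.Prime) (hpk : p + 1 = 2 ^ k)
    (hsub : ∀ r : ℕ, r.Prime → r ∣ 2 ^ (2 * m) - 1 → r ∣ p * (p ^ 2 - 1))
    (hpm : p ∣ 2 ^ (2 * m) - 1) : False := by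
  have h2p := hp.two_le
  obtain ⟨j, rfl⟩ : ∃ j, k = j + 2 := ⟨k - 2, by
    rcases (show k = 0 ∨ k = 1 ∨ 2 ≤ k by omega) with rfl | rfl | h
    · norm_num at hpk; omega
    · norm_num at hpk; omega
    · omega⟩
  have hpk2 : p ∣ 2 ^ (j + 2) - 1 := by rw [show 2 ^ (j + 2) - 1 = p by omega]
  -- `j + 2` divides `2 m`
  have hkm : j + 2 ∣ 2 * m := by
    have hg := dvd_gcd_pow hpm hpk2
    rcases (Nat.gcd_le_right (2 * m) (show 0 < j + 2 by omega)).lt_or_eq with hlt | he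
    · have hgpos : 0 < Nat.gcd (2 * m) (j + 2) := Nat.gcd_pos_of_pos_left _ (by omega)
      have h4 : 2 ≤ 2 ^ Nat.gcd (2 * m) (j + 2) := Nat.le_self_pow (by omega) 2
      have h5 : 2 ^ Nat.gcd (2 * m) (j + 2) * 2 ≤ 2 ^ (j + 2) := by
        rw [← pow_succ]; exact Nat.pow_le_pow_right two_pos hlt
      have := Nat.le_of_dvd (by omega) hg
      omega
    · exact he ▸ Nat.gcd_dvd_left (2 * m) (j + 2)
  obtain ⟨ρ, hρ⟩ := exists_primitive (n := 2 * m) (by omega) (by omega)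
  rcases (Nat.Prime.dvd_mul hρ.prime).1 (hsub ρ hρ.prime hρ.dvd) with hd | hd
  · have he := (Nat.prime_dvd_prime_iff_eq hρ.prime hp).1 hd
    have hmk := hρ.dvd_exponent (by omega) (he ▸ hpk2)
    have hkeq : j + 2 = 2 * m := Nat.dvd_antisymm hkm hmk
    rw [hkeq] at hpk
    have h4 : (2 : ℕ) ^ 4 ≤ 2 ^ m := Nat.pow_le_pow_right two_pos hm
    have hf : p = (2 ^ m - 1) * (2 ^ m + 1) := by
      rw [mul_comm, ← Nat.sq_sub_sq, ← pow_mul, one_pow, mul_comm m 2]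
      omega
    rcases hp.eq_one_or_self_of_dvd (2 ^ m - 1) (hf ▸ dvd_mul_right _ _) with h | h
    · omega
    · have : 2 ^ m + 1 = 1 := by
        have h' := hf
        rw [h] at h'
        exact (mul_eq_left₀ (by omega)).1 h'.symm
      omega
  · have he : p ^ 2 - 1 = 2 ^ (j + 3) * (2 ^ (j + 1) - 1) := by
      have h1 : p = 2 ^ (j + 2) - 1 := by omega
      have h2 : 2 ^ (j + 2) = 2 * 2 ^ (j + 1) := by ring
      have h3 : 1 ≤ 2 ^ (j + 1) := Nat.one_le_two_pow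
      obtain ⟨a, ha⟩ : ∃ a, 2 ^ (j + 1) = a + 1 := ⟨2 ^ (j + 1) - 1, by omega⟩
      have h4 : 2 ^ (j + 3) = 4 * (a + 1) := by rw [← ha]; ring
      rw [ha] at h2
      rw [show p = 2 * a + 1 by omega, ha, h4, Nat.add_sub_cancel]
      apply Nat.sub_eq_of_eq_add
      ring
    rw [he] at hd
    rcases (Nat.Prime.dvd_mul hρ.prime).1 hd with hd | hd
    · have := (Nat.prime_dvd_prime_iff_eq hρ.prime Nat.prime_two).1 (hρ.prime.dvd_of_dvd_pow hd)
      have := hρ.two_lt (by omega)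
      omega
    · have h1 := hρ.dvd_exponent (by omega) hd
      have h2 := Nat.le_of_dvd (by omega) h1
      have h3 := Nat.le_of_dvd (by omega) hkm
      rcases Nat.lt_or_ge (2 * m) (j + 2) with h | h
      · omega
      · omega

end CfsgLib.CITAlmost
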