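import Cfsg.Agent.CITGroups.Basic
import Cfsg.Agent.S0205
import Cfsg.Agent.S0225
import Cfsg.Agent.LocalStructure.Cores

/-!
# Groups in which involutions have two-groups as centralisers: quotients and odd normal subgroups
-/

set_option autoImplicit false
set_option linter.style.haveILetI false

namespace CfsgLib.CITAlmost

open Subgroup
open CfsgLib.CITGroups (IsCIT)

variable {G : Type*} [Group G]

/-- An element commuting with an involution is a two-element. -/
theorem eq_one_of_commute (h : IsCIT G) {t y : G} (ht : orderOf t = 2) (hc : Commute y t)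
    {r : ℕ} (hr : r.Prime) (hr2 : r ≠ 2) (hy : y ^ r = 1) : y = 1 := by
  obtain ⟨k, hk⟩ := h t ht ⟨y, mem_centralizer_singleton_iff.2 hc.eq⟩
  have h1 : y ^ 2 ^ k = 1 := congrArg Subtype.val hk
  have hcop : Nat.Coprime r (2 ^ k) :=
    Nat.Coprime.pow_right _ ((Nat.coprime_primes hr Nat.prime_two).2 hr2)
  exact orderOf_eq_one_iff.1 (Nat.eq_one_of_dvd_coprimes hcop (orderOf_dvd_of_pow_eq_one hy)
    (orderOf_dvd_of_pow_eq_one h1))

theorem cit_of_commute [Finite G]
    (h : ∀ t : G, orderOf t = 2 → ∀ (y : G) (r : ℕ), r.Prime → r ≠ 2 → Commute y t → y ^ r = 1 → y = 1) :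
    IsCIT G := by
  intro t ht
  haveI := Fact.mk Nat.prime_two
  rw [IsPGroup.iff_card]
  refine ⟨_, Nat.eq_prime_pow_of_unique_prime_dvd (Nat.card_pos.ne') fun {d} hd hdvd => ?_⟩
  by_contra hd2
  haveI := Fact.mk hd
  obtain ⟨y, hy⟩ := exists_prime_orderOf_dvd_card' d hdvd
  have h1 : (y : G) = 1 := h t ht y d hd hd2 (mem_centralizer_singleton_iff.1 y.2)
    (by rw [← SubgroupClass.coe_pow, ← hy, pow_orderOf_eq_one, OneMemClass.coe_one])
  rw [show y = 1 from Subtype.ext h1, orderOf_one] at hy
  exact hd.ne_one hy.symm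

theorem isCIT_of_equiv {H : Type*} [Group H] [Finite H] (h : IsCIT G) (e : G ≃* H) : IsCIT H :=
  cit_of_commute fun t ht y r hr hr2 hc hy => e.symm.injective <| by
    rw [map_one]
    exact eq_one_of_commute h ((e.symm.orderOf_eq t).trans ht) (hc.map e.symm) hr hr2
      (by rw [← map_pow, hy, map_one])

/-- A nonsolvable CIT group has no nontrivial normal subgroup of odd order. -/
theorem eq_bot_of_odd [Finite G] (h : IsCIT G) (hns : ¬ Group.IsSolvable G) (N : Subgroup G)
    [N.Normal] (hN : Odd (Nat.card N)) : N = ⊥ := by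
  haveI := Fact.mk Nat.prime_two
  have heven : Even (Nat.card G) := by
    by_contra ho
    exact hns (Cfsg.Agent.S0205.result (Nat.not_even_iff_odd.1 ho))
  by_cases hK : ∀ E : Subgroup G, ¬ IsKleinFour E
  · -- two-rank one: an involution is central modulo an odd normal subgroup
    obtain ⟨z, hz, M, hMn, hModd, hM⟩ := Cfsg.Agent.S0225.result heven hK
    haveI := hMn
    exfalso
    refine hns ?_
    -- every element is congruent modulo `M` to one centralising `z`
    have hgen : ∀ g : G, ∃ m ∈ M, Commute (m * g) z := by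
      intro g
      have hw2 : orderOf (g * z * g⁻¹) = 2 := by
        rw [← hz]; exact (MulAut.conj g).orderOf_eq z
      have hwz : g * z * g⁻¹ * z⁻¹ ∈ M := by
        have := M.inv_mem (hM g)
        rwa [show (z * g * z⁻¹ * g⁻¹)⁻¹ = g * z * g⁻¹ * z⁻¹ by group] at this
      set d := g * z * g⁻¹ * z⁻¹ with hd
      -- `z` inverts `d`, of odd order
      have hz1 : z * z = 1 := by rw [← sq, ← hz, pow_orderOf_eq_one]
      have hw1 : (g * z * g⁻¹) * (g * z * g⁻¹) = 1 := by rw [← sq, ← hw2, pow_orderOf_eq_one]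
      have hinv : z * d * z⁻¹ = d⁻¹ := by
        rw [hd, inv_eq_of_mul_eq_one_left hz1]
        calc z * (g * z * g⁻¹ * z) * z = z * (g * z * g⁻¹) * (z * z) := by group
          _ = (z * (g * z * g⁻¹)) := by rw [hz1, mul_one]
          _ = (g * z * g⁻¹ * z)⁻¹ := by
            rw [mul_inv_rev, inv_eq_of_mul_eq_one_left hz1, inv_eq_of_mul_eq_one_left hw1]
      obtain ⟨j, hj⟩ : ∃ j : ℕ, d ^ (2 * j) = d := by
        have hdodd : Odd (orderOf d) :=
          hModd.of_dvd_nat ((Subgroup.orderOf_mk d hwz).symm ▸ orderOf_dvd_natCard _)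
        obtain ⟨j, hj⟩ := hdodd
        refine ⟨j + 1, ?_⟩
        rw [show 2 * (j + 1) = orderOf d + 1 by omega, pow_succ, pow_orderOf_eq_one, one_mul]
      have hinvj : z * d ^ j * z⁻¹ = (d ^ j)⁻¹ := by rw [← conj_pow, hinv, inv_pow]
      refine ⟨(d ^ j)⁻¹, M.inv_mem (M.pow_mem hwz j), ?_⟩
      show (d ^ j)⁻¹ * g * z = z * ((d ^ j)⁻¹ * g)
      have h1 : g * z = d * z * g := by rw [hd]; group
      calc (d ^ j)⁻¹ * g * z = (d ^ j)⁻¹ * d * z * g := by rw [mul_assoc _ g z, h1]; group
        _ = d ^ j * z * g := by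
          congr 2
          rw [inv_mul_eq_iff_eq_mul, ← pow_add, ← two_mul, hj]
        _ = z * ((d ^ j)⁻¹ * g) := by
          rw [← mul_assoc z]
          congr 1
          calc d ^ j * z = (z * z) * (d ^ j * z⁻¹) := by
                rw [hz1, one_mul, inv_eq_of_mul_eq_one_left hz1]
            _ = z * (z * d ^ j * z⁻¹) := by group
            _ = z * (d ^ j)⁻¹ := by rw [hinvj]
    have hq : Group.IsSolvable (G ⧸ M) := by
      haveI : Group.IsNilpotent (centralizer ({z} : Set G)) := (h z hz).isNilpotent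
      refine Group.isSolvable_of_surjective
        (f := (QuotientGroup.mk' M).comp (centralizer ({z} : Set G)).subtype) fun q => ?_
      obtain ⟨g, rfl⟩ := QuotientGroup.mk_surjective q
      obtain ⟨m, hm, hc⟩ := hgen g
      refine ⟨⟨m * g, mem_centralizer_singleton_iff.2 hc.eq⟩, ?_⟩
      show ((m * g : G) : G ⧸ M) = g
      rw [QuotientGroup.mk_mul, (QuotientGroup.eq_one_iff m).2 hm, one_mul]
    exact Group.isSolvable_of_ker_le_range M.subtype (QuotientGroup.mk' M)
      (hG' := Cfsg.Agent.S0205.result hModd) (hG'' := hq)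
      (by rw [QuotientGroup.ker_mk', range_subtype])
  · push Not at hK
    obtain ⟨E, hE⟩ := hK
    haveI := hE
    -- every involution of `E` inverts `N`
    have hinv : ∀ e : E, e ≠ 1 → ∀ x ∈ N, (e : G) * x * (e : G)⁻¹ = x⁻¹ := by
      intro e he x hx
      have he2 : orderOf (e : G) = 2 := by
        rw [Subgroup.orderOf_coe]
        exact orderOf_eq_prime (by rw [sq, IsKleinFour.mul_self]) he
      let φ : N →* N :=
        { toFun := fun u => ⟨(e : G) * u * (e : G)⁻¹, Normal.conj_mem inferInstance _ u.2 _⟩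
          map_one' := Subtype.ext (by simp)
          map_mul' := fun u v => Subtype.ext (by simp only [Subgroup.coe_mul]; group) }
      have hfpf : MonoidHom.FixedPointFree φ := by
        intro u hu
        have hu' : (e : G) * u * (e : G)⁻¹ = u := congrArg Subtype.val hu
        by_contra hu1
        obtain ⟨r, hr, hrd⟩ := Nat.exists_prime_and_dvd
          (fun e1 => hu1 (orderOf_eq_one_iff.1 e1) : orderOf u ≠ 1)
        have hr2 : r ≠ 2 := by
          rintro rfl
          exact (Nat.not_even_iff_odd.2 (hN.of_dvd_nat (orderOf_dvd_natCard u)))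
            (even_iff_two_dvd.2 hrd)
        obtain ⟨c, hc⟩ := hrd
        have hc1 : u ^ c ≠ 1 := fun e1 => by
          have := Nat.le_of_dvd (Nat.pos_of_ne_zero fun h0 => (orderOf_pos u).ne' (by rw [hc, h0, mul_zero]))
            (orderOf_dvd_of_pow_eq_one e1)
          rw [hc] at this
          have := hr.two_le
          have := orderOf_pos u
          nlinarith
        refine hc1 (Subtype.ext (eq_one_of_commute h he2 ?_ hr hr2 ?_))
        · rw [SubgroupClass.coe_pow]
          exact Commute.pow_left (show Commute (u : G) e from ((mul_inv_eq_iff_eq_mul.1 hu').symm)) _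
        · rw [← SubgroupClass.coe_pow, ← pow_mul, mul_comm, ← hc, pow_orderOf_eq_one,
            OneMemClass.coe_one]
      have hi : Function.Involutive φ := fun u => Subtype.ext (by
        show (e : G) * ((e : G) * u * (e : G)⁻¹) * (e : G)⁻¹ = u
        have : (e : G) * e = 1 := congrArg Subtype.val (IsKleinFour.mul_self e)
        calc (e : G) * ((e : G) * u * (e : G)⁻¹) * (e : G)⁻¹
            = ((e : G) * e) * u * ((e : G) * e)⁻¹ := by group
          _ = u := by rw [this]; group)
      exact congrArg Subtype.val (congrFun (hfpf.coe_eq_inv_of_involutive hi) ⟨x, hx⟩)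
    obtain ⟨a, ha⟩ : ∃ a : E, a ≠ 1 := by
      haveI : Nontrivial E := Finite.one_lt_card_iff_nontrivial.1 (by rw [IsKleinFour.card_four]; norm_num)
      exact exists_ne 1
    obtain ⟨b, hb, hba⟩ : ∃ b : E, b ≠ 1 ∧ b ≠ a := by
      classical
      haveI := Fintype.ofFinite E
      have h4 : Fintype.card E = 4 := by rw [← Nat.card_eq_fintype_card, IsKleinFour.card_four]
      obtain ⟨b, -, hb⟩ := Finset.exists_mem_notMem_of_card_lt_card
        (s := ({1, a} : Finset E)) (t := Finset.univ)
        (lt_of_le_of_lt Finset.card_le_two (by rw [Finset.card_univ, h4]; norm_num))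
      simp only [Finset.mem_insert, Finset.mem_singleton, not_or] at hb
      exact ⟨b, hb⟩
    have hab : a * b ≠ 1 := fun e1 => hba (by
      rw [← inv_eq_of_mul_eq_one_right e1, inv_eq_of_mul_eq_one_right (IsKleinFour.mul_self a)])
    refine (eq_bot_iff_forall _).2 fun x hx => ?_
    -- `a * b` inverts and centralises `x`
    have h1 := hinv (a * b) hab x hx
    rw [Subgroup.coe_mul, mul_inv_rev,
      show (a : G) * b * x * ((b : G)⁻¹ * (a : G)⁻¹) = a * ((b : G) * x * (b : G)⁻¹) * (a : G)⁻¹ by group,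
      hinv b hb x hx, hinv a ha x⁻¹ (N.inv_mem hx), inv_inv] at h1
    have hx2 : (⟨x, hx⟩ : N) ^ 2 = 1 := Subtype.ext (by
      show x ^ 2 = 1
      rw [sq]; nth_rw 2 [h1]; exact mul_inv_cancel x)
    have hd : orderOf (⟨x, hx⟩ : N) = 1 := Nat.eq_one_of_dvd_coprimes
      ((Nat.coprime_two_left).2 (hN.of_dvd_nat (orderOf_dvd_natCard _)))
      (orderOf_dvd_of_pow_eq_one hx2) dvd_rfl
    exact congrArg Subtype.val (orderOf_eq_one_iff.1 hd)

end CfsgLib.CITAlmost
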