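import Cfsg.Agent.CITAlmost.Basic
import Cfsg.Agent.AutPSL.AutOrder
import Cfsg.Agent.DicksonPSL2.Basic

/-!
# A CIT group with socle `PSL₂` of even order is its socle

A field automorphism fixes the subgroup over the prime field, which has involutions and elements of order three.
-/

set_option autoImplicit false
set_option linter.style.haveILetI false

namespace CfsgLib.CITAlmost

open Subgroup Matrix CfsgLib.AutPSL
open CfsgLib.CITGroups (IsCIT)
open scoped MatrixGroups

variable {F : Type*} [Field F] [Fintype F]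

/-- Over a perfect field of characteristic two `conjSL g` is inner on `PSL₂`. -/
theorem exists_inner [CharP F 2] (g : GL (Fin 2) F) :
    ∃ a : Matrix.ProjectiveSpecialLinearGroup (Fin 2) F, toPSLAut (conjSL g) = MulAut.conj a := by
  obtain ⟨c, hc⟩ := FiniteField.isSquare_of_char_two (by rw [ringChar.eq F 2])
    (g : Matrix (Fin 2) (Fin 2) F).det
  have hg0 : (g : Matrix (Fin 2) (Fin 2) F).det ≠ 0 := Matrix.det_ne_zero_of_left_inverse g.inv_val
  have hc0 : c ≠ 0 := fun h => hg0 (by rw [hc, h, mul_zero])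
  let h : SL(2, F) := ⟨c⁻¹ • (g : Matrix (Fin 2) (Fin 2) F), by
    rw [Matrix.det_smul, Fintype.card_fin, hc]; field_simp⟩
  refine ⟨QuotientGroup.mk h, ?_⟩
  have hg : g = Matrix.GeneralLinearGroup.scalar (Fin 2) (Units.mk0 c hc0) *
      Matrix.SpecialLinearGroup.toGL h := by
    apply Units.ext
    show (g : Matrix (Fin 2) (Fin 2) F) = Matrix.scalar (Fin 2) c * (h : Matrix (Fin 2) (Fin 2) F)
    rw [Matrix.scalar_apply, ← Matrix.smul_eq_diagonal_mul, smul_smul, mul_inv_cancel₀ hc0, one_smul]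
  conv_lhs => rw [hg, map_mul, conjSL_scalar, one_mul, conjSL_toGL, toPSLAut_conj]

/-- The identity, or a unipotent element and an element of order three, over the prime field. -/
theorem exists_fixed [CharP F 2] (σ : F ≃+* F) :
    (∃ u : Matrix.ProjectiveSpecialLinearGroup (Fin 2) F, orderOf u = 2 ∧
      toPSLAut (fieldSL σ) u = u) ∧
    ∃ d : Matrix.ProjectiveSpecialLinearGroup (Fin 2) F, orderOf d = 3 ∧
      toPSLAut (fieldSL σ) d = d := by
  have h11 : (1 : F) + 1 = 0 := CharTwo.add_self_eq_zero 1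
  have hne : ∀ s : SL(2, F), (s : Matrix (Fin 2) (Fin 2) F) 0 1 ≠ 0 →
      (QuotientGroup.mk s : Matrix.ProjectiveSpecialLinearGroup (Fin 2) F) ≠ 1 := by
    intro s hs h
    rw [QuotientGroup.eq_one_iff, Matrix.SpecialLinearGroup.mem_center_iff] at h
    obtain ⟨r, -, hr⟩ := h
    exact hs (by rw [← hr]; simp [Matrix.scalar_apply])
  let u : SL(2, F) := ⟨!![1, 1; 0, 1], by simp [Matrix.det_fin_two_of]⟩
  let d : SL(2, F) := ⟨!![0, 1; 1, 1], by simp [Matrix.det_fin_two_of, CharTwo.neg_eq]⟩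
  have hu2 : u ^ 2 = 1 := by
    rw [sq]; apply Subtype.ext
    show (!![1, 1; 0, 1] : Matrix (Fin 2) (Fin 2) F) * !![1, 1; 0, 1] = 1
    ext i j; fin_cases i <;> fin_cases j <;> simp [Matrix.mul_apply, h11]
  have hd3 : d ^ 3 = 1 := by
    rw [pow_succ, sq]; apply Subtype.ext
    show (!![0, 1; 1, 1] : Matrix (Fin 2) (Fin 2) F) * !![0, 1; 1, 1] * !![0, 1; 1, 1] = 1
    ext i j; fin_cases i <;> fin_cases j <;> simp [Matrix.mul_apply, h11]
  haveI := Fact.mk Nat.prime_three
  refine ⟨⟨QuotientGroup.mk u, orderOf_eq_prime (by rw [← QuotientGroup.mk_pow, hu2, QuotientGroup.mk_one])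
    (hne u (by simp [u])), ?_⟩, QuotientGroup.mk d, orderOf_eq_prime
    (by rw [← QuotientGroup.mk_pow, hd3, QuotientGroup.mk_one]) (hne d (by simp [d])), ?_⟩
  · rw [toPSLAut_mk]; congr 1; apply Subtype.ext
    rw [fieldSL_coe]; ext i j; fin_cases i <;> fin_cases j <;> simp [u]
  · rw [toPSLAut_mk]; congr 1; apply Subtype.ext
    rw [fieldSL_coe]; ext i j; fin_cases i <;> fin_cases j <;> simp [d]

variable {Q : Type*} [Group Q] [Finite Q]

/-- The socle is the whole group. -/
theorem psl_two_eq_top [CharP F 2] (h : IsCIT Q) (M : Subgroup Q) [M.Normal]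
    (hC : centralizer (M : Set Q) = ⊥)
    (e : M ≃* Matrix.ProjectiveSpecialLinearGroup (Fin 2) F) : M = ⊤ := by
  classical
  haveI := Fact.mk Nat.prime_two
  let c : Q →* MulAut (Matrix.ProjectiveSpecialLinearGroup (Fin 2) F) :=
    (MulAut.congr e).toMonoidHom.comp MulAut.conjNormal
  have hcapp : ∀ (g : Q) (x : M), c g (e x) = e (MulAut.conjNormal g x) := fun g x => by
    show e (MulAut.conjNormal g (e.symm (e x))) = _
    rw [MulEquiv.symm_apply_apply]
  have hfix : ∀ (y : Q) (a : Matrix.ProjectiveSpecialLinearGroup (Fin 2) F),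
      c y a = a → Commute y (e.symm a : Q) := by
    intro y a ha
    have := hcapp y (e.symm a)
    rw [MulEquiv.apply_symm_apply, ha] at this
    have h1 := congrArg (fun z : M => (z : Q)) ((e.symm_apply_eq).2 this)
    simp only [MulAut.conjNormal_apply] at h1
    exact mul_inv_eq_iff_eq_mul.1 h1.symm
  have hker : ∀ y : Q, c y = 1 → y = 1 := by
    intro y hy
    have : y ∈ centralizer (M : Set Q) := mem_centralizer_iff.2 fun m hm => by
      have := hfix y (e ⟨m, hm⟩) (by rw [hy]; rfl)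
      rw [MulEquiv.symm_apply_apply] at this
      exact this.eq.symm
    rwa [hC, Subgroup.mem_bot] at this
  have hinn : ∀ a, c ((e.symm a : M) : Q) = MulAut.conj a := by
    intro a
    ext1 b
    obtain ⟨x, rfl⟩ := e.surjective b
    rw [hcapp, MulAut.conj_apply]
    obtain ⟨a', rfl⟩ := e.surjective a
    rw [MulEquiv.symm_apply_apply, ← map_inv, ← map_mul, ← map_mul]
    rfl
  refine eq_top_iff.2 fun g _ => ?_
  obtain ⟨g₀, σ, γ, hγ, hβ⟩ := AutPSL.exists_form le_rfl (c g)
  obtain ⟨w, hw⟩ : ∃ w : GL (Fin 2) F, γ = conjSL w := by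
    rcases hγ with rfl | rfl
    · exact ⟨1, (map_one conjSL).symm⟩
    · exact invTransSL_fin_two
  obtain ⟨a, ha⟩ := exists_inner g₀
  obtain ⟨b, hb⟩ := exists_inner w
  set m₁ : M := e.symm a
  set m₂ : M := e.symm b
  set y : Q := (m₁ : Q)⁻¹ * g * (m₂ : Q)⁻¹ with hy
  have hcy : c y = toPSLAut (fieldSL σ) := by
    rw [hy, map_mul, map_mul, map_inv, map_inv, hinn, hinn, hβ, hw, map_mul, map_mul, ha, hb]
    group
  by_cases hσ : σ = 1
  · have hy1 : y = 1 := hker y (by rw [hcy, hσ, map_one, map_one])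
    rw [hy, mul_inv_eq_one, inv_mul_eq_iff_eq_mul] at hy1
    rw [hy1]
    exact M.mul_mem m₁.2 m₂.2
  exfalso
  obtain ⟨r, hr, hrd⟩ := Nat.exists_prime_and_dvd
    (fun e1 => hσ (orderOf_eq_one_iff.1 e1) : orderOf σ ≠ 1)
  haveI : Finite (F ≃+* F) := Finite.of_injective _ DFunLike.coe_injective
  have hpos : 0 < orderOf σ := orderOf_pos σ
  set τ := σ ^ (orderOf σ / r) with hτ
  have hτr : orderOf τ = r := orderOf_pow_orderOf_div hpos.ne' hrd
  have hcy' : c (y ^ (orderOf σ / r)) = toPSLAut (fieldSL τ) := by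
    rw [map_pow, hcy, ← map_pow, ← map_pow]
  set z := y ^ (orderOf σ / r) with hz
  have hzr : z ^ r = 1 := hker _ (by
    rw [map_pow, hcy', ← map_pow, ← map_pow, ← hτr, pow_orderOf_eq_one, map_one, map_one])
  obtain ⟨⟨u, hu, hfu⟩, d, hd, hfd⟩ := exists_fixed τ
  have hu' := hfix z u (by rw [hcy', hfu])
  have hd' := hfix z d (by rw [hcy', hfd])
  have huo : orderOf ((e.symm u : M) : Q) = 2 := by rw [orderOf_coe, e.symm.orderOf_eq, hu]
  have hdo : orderOf ((e.symm d : M) : Q) = 3 := by rw [orderOf_coe, e.symm.orderOf_eq, hd]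
  have hz1 : z ≠ 1 := by
    intro e1
    rw [e1, map_one] at hcy'
    have hi := (toPSLAut_injective 2).comp (fieldSL_injective (F := F) (ι := Fin 2))
    have : τ = 1 := hi (by simp only [Function.comp, map_one]; exact hcy'.symm)
    rw [this, orderOf_one] at hτr
    exact hr.ne_one hτr.symm
  by_cases hr2 : r = 2
  · subst hr2
    have h1 := eq_one_of_commute h (orderOf_eq_prime hzr hz1) hd'.symm Nat.prime_three (by norm_num)
      (by rw [← hdo, pow_orderOf_eq_one])
    rw [h1, orderOf_one] at hdo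
    omega
  · exact hz1 (eq_one_of_commute h huo hu' hr hr2 hzr)

end CfsgLib.CITAlmost
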