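import Cfsg.Agent.CITAlmost.Socle
import Cfsg.Agent.CITAlmost.Outer
import Cfsg.Agent.CITAlmost.Arith
import Cfsg.Agent.CITGroups.Kernel
import Cfsg.Agent.DicksonPSL2.InvolutionGraph
import Cfsg.Agent.PSLTwoSpectrum.Orders
import Cfsg.Agent.PrimeGraph.Lucido
import Cfsg.Agent.Linear.Basic
import Cfsg.Agent.S3633
import Cfsg.Agent.S0820
import Cfsg.Prelude.Def_Exceptional

/-!
# Groups with the prime graph of `PSL₂(2 ^ m)`

The prime two is isolated and three primes are pairwise non-adjacent, so the group is a nonsolvable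
CIT group; the socle of the quotient by `O₂` is then read off from the classification of the simple
CIT groups, which is passed as an argument.
-/

set_option autoImplicit false
set_option linter.style.haveILetI false

namespace CfsgLib.CITAlmost

open Subgroup
open CfsgLib.CITGroups (IsCIT SEKernel)
open scoped MatrixGroups

universe u v

/-- The disjunction given by the classification of the simple CIT groups. -/
def SimpleList (M : Type u) [Group M] : Prop :=
  (∃ (F : Type) (_ : Field F) (_ : Fintype F),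
      (Fintype.card F = 9 ∨ (∃ n : ℕ, Fintype.card F = 2 ^ n) ∨
        ((Fintype.card F).Prime ∧ ∃ k : ℕ, Fintype.card F = 2 ^ k + 1 ∨ Fintype.card F + 1 = 2 ^ k)) ∧
      Nonempty (M ≃* Matrix.ProjectiveSpecialLinearGroup (Fin 2) F)) ∨
  (∃ (F : Type) (_ : Field F) (_ : Fintype F), Fintype.card F = 4 ∧
      Nonempty (M ≃* Matrix.ProjectiveSpecialLinearGroup (Fin 3) F)) ∨
  ∃ H : Subgroup M, SEKernel H ∧ Cfsg.IsSuzuki M

variable {F : Type v} [Field F] [Fintype F]

/-- The prime divisors of `|PSL₂(2 ^ m)|`. -/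
theorem prime_dvd_card_iff {m : ℕ} (hm : 1 ≤ m) (hF : Fintype.card F = 2 ^ m) {r : ℕ} (hr : r.Prime) :
    r ∣ Nat.card PSL(2, F) ↔ r = 2 ∨ r ∣ 2 ^ (2 * m) - 1 := by
  rw [CfsgLib.Linear.card_PSL_two_even (by rw [hF]; exact (Nat.even_pow' (by omega)).2 even_two), hF,
    ← pow_mul, mul_comm m 2, hr.dvd_mul]
  refine or_congr ⟨fun h => (Nat.prime_dvd_prime_iff_eq hr Nat.prime_two).1 (hr.dvd_of_dvd_pow h),
    fun h => by subst h; exact dvd_pow_self 2 (by omega)⟩ Iff.rfl

theorem orderOf_cases [CharP F 2] (x : PSL(2, F)) :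
    orderOf x ∣ 2 ∨ orderOf x ∣ Fintype.card F + 1 ∨ orderOf x ∣ Fintype.card F - 1 := by
  haveI := Fact.mk Nat.prime_two
  have hev : Fintype.card F % 2 = 0 := FiniteField.even_card_iff_char_two.1 (ringChar.eq F 2)
  have h1 := Fintype.one_lt_card (α := F)
  have hg : Nat.gcd 2 (Fintype.card F - 1) = 1 := by
    rw [← Nat.coprime_iff_gcd_eq_one, Nat.prime_two.coprime_iff_not_dvd]
    omega
  simpa [hg] using CfsgLib.PSLTwoSpectrum.orderOf_dvd_cases 2 x

/-- The prime graphs of `A` and `B` coincide. -/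
def SameGraph (A B : Type*) [Group A] [Group B] : Prop :=
  (∀ r : ℕ, r.Prime → (r ∣ Nat.card A ↔ r ∣ Nat.card B)) ∧
    ∀ r s : ℕ, r.Prime → s.Prime → r ≠ s →
      ((∃ x : A, orderOf x = r * s) ↔ ∃ y : B, orderOf y = r * s)

variable {G : Type*} [Group G]

theorem isCIT_of_isolated [Finite G]
    (h : ∀ r : ℕ, r.Prime → r ≠ 2 → ¬ ∃ y : G, orderOf y = 2 * r) : IsCIT G := by
  refine cit_of_commute fun t ht y r hr hr2 hc hy => by_contra fun hy1 => ?_
  haveI := Fact.mk hr
  have hyo : orderOf y = r := orderOf_eq_prime hy hy1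
  refine h r hr hr2 ⟨y * t, ?_⟩
  rw [hc.orderOf_mul_eq_mul_orderOf_of_coprime
    (by rw [hyo, ht]; exact (Nat.coprime_primes hr Nat.prime_two).2 hr2), hyo, ht, mul_comm]

theorem not_isSolvable_of_three [Finite G] {a b c : ℕ} (ha : a.Prime) (hb : b.Prime) (hc : c.Prime)
    (hab : a ≠ b) (hac : a ≠ c) (hbc : b ≠ c) (hA : a ∣ Nat.card G) (hB : b ∣ Nat.card G)
    (hC : c ∣ Nat.card G) (h1 : ¬ ∃ x : G, orderOf x = a * b) (h2 : ¬ ∃ x : G, orderOf x = a * c)
    (h3 : ¬ ∃ x : G, orderOf x = b * c) : ¬ Group.IsSolvable G := by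
  refine (Cfsg.Agent.S3633.result ({a, b, c} : Finset ℕ)
    (by simp [hab, hac, hbc]) ⟨?_, ?_⟩ (⊥ : Subgroup G) inferInstance).2
  · simp [ha, hb, hc, hA, hB, hC]
  · have h1' : ¬ ∃ x : G, orderOf x = b * a := by rwa [mul_comm]
    have h2' : ¬ ∃ x : G, orderOf x = c * a := by rwa [mul_comm]
    have h3' : ¬ ∃ x : G, orderOf x = c * b := by rwa [mul_comm]
    simp only [Finset.mem_insert, Finset.mem_singleton]
    rintro r (rfl | rfl | rfl) s (rfl | rfl | rfl) hrs <;> first | exact absurd rfl hrs | assumption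

/-- Odd primes divide `|G / O₂(G)|`. -/
theorem dvd_card_quotient_iff [Finite G] {r : ℕ} (hr : r.Prime) (hr2 : r ≠ 2) :
    r ∣ Nat.card (G ⧸ Cfsg.pCore 2 G) ↔ r ∣ Nat.card G := by
  haveI := Fact.mk Nat.prime_two
  rw [card_eq_card_quotient_mul_card_subgroup (Cfsg.pCore 2 G), hr.dvd_mul]
  refine ⟨Or.inl, fun h => h.resolve_right fun hd => ?_⟩
  obtain ⟨k, hk⟩ := IsPGroup.iff_card.1 (CfsgLib.LocalStructure.pCore_isPGroup (p := 2) (G := G))
  rw [hk] at hd
  exact hr2 ((Nat.prime_dvd_prime_iff_eq hr Nat.prime_two).1 (hr.dvd_of_dvd_pow hd))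

/-- With one class of involutions in the socle, it has all odd primes of the group. -/
theorem dvd_card_socle [Finite G] (h : IsCIT G) (M : Subgroup G) [M.Normal]
    (hone : ∀ s t : M, orderOf s = 2 → orderOf t = 2 → IsConj s t)
    {t : G} (htM : t ∈ M) (ht : orderOf t = 2) {r : ℕ} (hr : r.Prime) (hr2 : r ≠ 2)
    (hrG : r ∣ Nat.card G) : r ∣ Nat.card M := by
  haveI := Fact.mk Nat.prime_two
  have hp := isPGroup_quotient h M htM ht fun s hs hso => by
    obtain ⟨c, hc⟩ := isConj_iff.1 (hone ⟨t, htM⟩ ⟨s, hs⟩ (by rwa [Subgroup.orderOf_mk])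
      (by rwa [Subgroup.orderOf_mk]))
    exact ⟨c, c.2, congrArg Subtype.val hc⟩
  rw [card_eq_card_quotient_mul_card_subgroup M, hr.dvd_mul] at hrG
  refine hrG.resolve_left fun hd => ?_
  obtain ⟨k, hk⟩ := IsPGroup.iff_card.1 hp
  rw [hk] at hd
  exact hr2 ((Nat.prime_dvd_prime_iff_eq hr Nat.prime_two).1 (hr.dvd_of_dvd_pow hd))

theorem isConj_of_equiv {M X : Type*} [Group M] [Group X] (e : M ≃* X)
    (h : ∀ s t : X, orderOf s = 2 → orderOf t = 2 → IsConj s t) (s t : M) (hs : orderOf s = 2)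
    (ht : orderOf t = 2) : IsConj s t := by
  have := e.symm.toMonoidHom.map_isConj
    (h (e s) (e t) (by rw [e.orderOf_eq]; exact hs) (by rw [e.orderOf_eq]; exact ht))
  simpa using this

theorem dvd_card_GL_three_four {K : Type*} [Field K] [Fintype K] (hK : Fintype.card K = 4) {r : ℕ}
    (hr : r.Prime) (hd : r ∣ Nat.card (Matrix.ProjectiveSpecialLinearGroup (Fin 3) K)) : r ≤ 7 := by
  have h1 : r ∣ Nat.card (GL (Fin 3) K) := (hd.trans (card_quotient_dvd_card _)).trans
    (card_dvd_of_injective Matrix.SpecialLinearGroup.toGL Matrix.SpecialLinearGroup.toGL_injective)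
  rw [Matrix.card_GL_field, Fin.prod_univ_three, hK] at h1
  norm_num at h1
  rw [show (181440 : ℕ) = 2 ^ 6 * 3 ^ 4 * 5 * 7 by norm_num] at h1
  rcases (Nat.Prime.dvd_mul hr).1 h1 with h | h
  rcases (Nat.Prime.dvd_mul hr).1 h with h | h
  rcases (Nat.Prime.dvd_mul hr).1 h with h | h
  · exact (Nat.le_of_dvd two_pos (hr.dvd_of_dvd_pow h)).trans (by norm_num)
  · exact (Nat.le_of_dvd (by norm_num) (hr.dvd_of_dvd_pow h)).trans (by norm_num)
  · exact (Nat.le_of_dvd (by norm_num) h).trans (by norm_num)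
  · exact Nat.le_of_dvd (by norm_num) h

/-- A group with the prime graph of `PSL₂(2 ^ m)` is that group modulo `O₂`. -/
theorem psl_two_recognition {G : Type u} [Group G] [Finite G]
    (hclass : ∀ (M : Type u) [Group M] [Finite M] [IsSimpleGroup M],
      (∃ a b : M, a * b ≠ b * a) → IsCIT M → SimpleList M)
    {m : ℕ} (hm : 4 ≤ m) (hF : Fintype.card F = 2 ^ m) (h : SameGraph (PSL(2, F)) G) :
    Nonempty (G ⧸ Cfsg.pCore 2 G ≃* PSL(2, F)) := by
  haveI := Fact.mk Nat.prime_two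
  haveI : CharP F 2 := ringChar.of_eq (FiniteField.even_card_iff_char_two.2 (by
    rw [hF, Nat.pow_mod]; simp [zero_pow (show m ≠ 0 by omega)]))
  obtain ⟨hpr, hgr⟩ := h
  have h1m : 1 ≤ m := by omega
  have hprG : ∀ r : ℕ, r.Prime → (r ∣ Nat.card G ↔ r = 2 ∨ r ∣ 2 ^ (2 * m) - 1) := fun r hr =>
    (hpr r hr).symm.trans (prime_dvd_card_iff h1m hF hr)
  -- the graph of `PSL₂(2 ^ m)`
  have hpow : 2 ^ (2 * m) - 1 = (2 ^ m + 1) * (2 ^ m - 1) := by
    rw [← Nat.sq_sub_sq, one_pow, ← pow_mul, mul_comm]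
  have heven : 2 ∣ 2 ^ m := dvd_pow_self 2 (by omega)
  have h1q := Nat.one_le_two_pow (n := m)
  have hcases : ∀ n : ℕ, (∃ x : PSL(2, F), orderOf x = n) → n ∣ 2 ∨ n ∣ 2 ^ m + 1 ∨ n ∣ 2 ^ m - 1 := by
    rintro n ⟨x, rfl⟩
    simpa [hF] using orderOf_cases x
  have hiso : ∀ r : ℕ, r.Prime → r ≠ 2 → ¬ ∃ y : G, orderOf y = 2 * r := by
    intro r hr hr2 hy
    rcases hcases _ ((hgr 2 r Nat.prime_two hr (Ne.symm hr2)).2 hy) with h | h | h
    · exact hr2 ((Nat.prime_dvd_prime_iff_eq hr Nat.prime_two).1 ((dvd_mul_left r 2).trans h))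
    · have := (dvd_mul_right 2 r).trans h; omega
    · have := (dvd_mul_right 2 r).trans h; omega
  have hcit := isCIT_of_isolated hiso
  -- three pairwise non-adjacent primes
  obtain ⟨a, ha, had⟩ := Nat.exists_prime_and_dvd (n := 2 ^ m + 1) (by omega)
  obtain ⟨b, hb, hbd⟩ := Nat.exists_prime_and_dvd (n := 2 ^ m - 1) (by
    have : (2 : ℕ) ^ 4 ≤ 2 ^ m := Nat.pow_le_pow_right two_pos hm
    omega)
  have ha2 : a ≠ 2 := fun e => by subst e; omega
  have hb2 : b ≠ 2 := fun e => by subst e; omega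
  have hsub2 : ∀ {c : ℕ}, c.Prime → c ∣ 2 ^ m + 1 → c ∣ 2 ^ m - 1 → c = 2 := fun {c} hc h1 h2 => by
    have := Nat.dvd_sub h1 h2
    rw [show 2 ^ m + 1 - (2 ^ m - 1) = 2 by omega] at this
    exact (Nat.prime_dvd_prime_iff_eq hc Nat.prime_two).1 this
  have hab : a ≠ b := fun e => ha2 (hsub2 ha had (e ▸ hbd))
  have hns : ¬ Group.IsSolvable G := by
    refine not_isSolvable_of_three Nat.prime_two ha hb (Ne.symm ha2) (Ne.symm hb2) hab
      ((hprG 2 Nat.prime_two).2 (Or.inl rfl))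
      ((hprG a ha).2 (Or.inr (had.trans (hpow ▸ dvd_mul_right _ _))))
      ((hprG b hb).2 (Or.inr (hbd.trans (hpow ▸ dvd_mul_left _ _))))
      (hiso a ha ha2) (hiso b hb hb2) fun hy => ?_
    rcases hcases _ ((hgr a b ha hb hab).2 hy) with h | h | h
    · exact ha2 ((Nat.prime_dvd_prime_iff_eq ha Nat.prime_two).1 ((dvd_mul_right a b).trans h))
    · exact hb2 (hsub2 hb ((dvd_mul_left b a).trans h) hbd)
    · exact ha2 (hsub2 ha had ((dvd_mul_right a b).trans h))
  -- the socle of the quotient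
  have hN : IsPGroup 2 (Cfsg.pCore 2 G) := CfsgLib.LocalStructure.pCore_isPGroup
  have hQ := hcit.quotient (Cfsg.pCore 2 G) hN
  obtain ⟨M, hMn, hMs, hMnc, hMC, t, htM, ht⟩ := exists_socle hQ
    (not_isSolvable_quotient hns _ hN) (pCore_quotient_eq_bot 2 _ rfl)
  haveI := hMn
  haveI := hMs
  have hna : ∃ x y : M, x * y ≠ y * x := by
    by_contra hc
    push Not at hc
    exact hMnc ⟨⟨hc⟩⟩
  -- primes
  have hprM : ∀ r : ℕ, r.Prime → r ≠ 2 → r ∣ Nat.card M → r ∣ 2 ^ (2 * m) - 1 := fun r hr hr2 hd =>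
    ((hprG r hr).1 ((dvd_card_quotient_iff hr hr2).1
      (hd.trans (card_subgroup_dvd_card M)))).resolve_left hr2
  have hall : (∀ s t : M, orderOf s = 2 → orderOf t = 2 → IsConj s t) →
      ∀ r : ℕ, r.Prime → r ∣ 2 ^ (2 * m) - 1 → r ∣ Nat.card M := fun hone r hr hd => by
    have hr2 : r ≠ 2 := fun e => by
      subst e
      have : 2 ∣ 2 ^ (2 * m) := dvd_pow_self 2 (by omega)
      have := Nat.one_le_two_pow (n := 2 * m)
      omega
    exact dvd_card_socle hQ M hone htM ht hr hr2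
      ((dvd_card_quotient_iff hr hr2).2 ((hprG r hr).2 (Or.inr hd)))
  obtain ⟨ρ, hρ⟩ := exists_primitive (n := 2 * m) (by omega) (by omega)
  have hρ11 := hρ.eleven_le hm
  rcases hclass M hna (hQ.subgroup M) with ⟨K, _, _, hK, ⟨e⟩⟩ | ⟨K, _, _, hK, ⟨e⟩⟩ | ⟨H, hH, hS⟩
  · have hc := Nat.card_congr e.toEquiv
    have hmul := CfsgLib.Linear.card_PSL_two_mul (F := K)
    rw [← hc] at hmul
    have hone := isConj_of_equiv e fun s t => CfsgLib.DicksonPSL2.InvolutionGraph.isConj_of_orderOf_two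
    rcases hK with h9 | ⟨k, hk⟩ | ⟨hp, k, hk⟩
    · have := hall hone ρ hρ.prime hρ.dvd
      rw [h9] at hmul
      norm_num at hmul
      have h720 : ρ ∣ 2 ^ 4 * 3 ^ 2 * 5 := by
        rw [show (2 ^ 4 * 3 ^ 2 * 5 : ℕ) = 2 * Nat.card M by omega]
        exact dvd_mul_of_dvd_right this 2
      rcases (Nat.Prime.dvd_mul hρ.prime).1 h720 with h | h
      rcases (Nat.Prime.dvd_mul hρ.prime).1 h with h | h
      · have := Nat.le_of_dvd two_pos (hρ.prime.dvd_of_dvd_pow h); omega
      · have := Nat.le_of_dvd (by norm_num) (hρ.prime.dvd_of_dvd_pow h); omega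
      · have := Nat.le_of_dvd (by norm_num) h; omega
    · -- the generic case
      have hk1 : 1 ≤ k := by
        have := Fintype.one_lt_card (α := K)
        rcases k with _ | k
        · rw [hk] at this; simp at this
        · omega
      haveI : CharP K 2 := ringChar.of_eq (FiniteField.even_card_iff_char_two.2 (by
        rw [hk, Nat.pow_mod]; simp [zero_pow (show k ≠ 0 by omega)]))
      have hMtop := psl_two_eq_top hQ M hMC e
      have hkm : k = m := by
        refine eq_of_same_primes hm hk1 (fun r hr hd => ?_) (fun r hr hd => ?_)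
        · have hr2 : r ≠ 2 := fun e' => by
            subst e'
            have := Nat.one_le_two_pow (n := 2 * m)
            have : 2 ∣ 2 ^ (2 * m) := dvd_pow_self 2 (by omega)
            omega
          have := hall hone r hr hd
          rw [hc] at this
          exact ((prime_dvd_card_iff hk1 hk hr).1 this).resolve_left hr2
        · have hr2 : r ≠ 2 := fun e' => by
            subst e'
            have := Nat.one_le_two_pow (n := 2 * k)
            have : 2 ∣ 2 ^ (2 * k) := dvd_pow_self 2 (by omega)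
            omega
          exact hprM r hr hr2 (hc ▸ (prime_dvd_card_iff hk1 hk hr).2 (Or.inr hd))
      exact ⟨(((MulEquiv.subgroupCongr hMtop).trans Subgroup.topEquiv).symm.trans e).trans
        (CfsgLib.Linear.pslFieldCongr (by rw [hk, hF, hkm]))⟩
    · exfalso
      have h1p := hp.two_le
      have hsub : ∀ r : ℕ, r.Prime → r ∣ 2 ^ (2 * m) - 1 →
          r ∣ Fintype.card K * (Fintype.card K ^ 2 - 1) := fun r hr hd =>
        hmul ▸ dvd_mul_of_dvd_right (hall hone r hr hd) _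
      have hp2 : Fintype.card K ≠ 2 := fun e' => by
        rw [e'] at hsub
        have := Nat.le_of_dvd (by norm_num) (hsub ρ hρ.prime hρ.dvd)
        norm_num at this
        omega
      have hpm : Fintype.card K ∣ 2 ^ (2 * m) - 1 := by
        refine hprM _ hp hp2 ?_
        refine (Nat.Coprime.dvd_mul_left ?_).1 (hmul.symm ▸ dvd_mul_right _ _)
        refine Nat.Coprime.coprime_dvd_right (Nat.gcd_dvd_left 2 _) ?_
        exact (Nat.coprime_primes hp Nat.prime_two).2 hp2
      rcases hk with hk | hk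
      · exact false_of_fermat hm hp hk hsub hpm
      · exact false_of_mersenne hm hp hk hsub hpm
  · exfalso
    have := hall (isConj_of_equiv e fun s t => Cfsg.Agent.S0820.result hK s t) ρ hρ.prime hρ.dvd
    rw [Nat.card_congr e.toEquiv] at this
    have := dvd_card_GL_three_four hK hρ.prime this
    omega
  · exfalso
    obtain ⟨β, hβ⟩ := hH.exists_ne_base
    haveI : Nontrivial (M ⧸ normalizer (H : Set M)) := ⟨⟨_, _, hβ⟩⟩
    have h3 := hall (fun s t hs ht' => CfsgLib.SEmbed.isConj_invol hH.uf hs ht') 3 Nat.prime_three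
      (three_dvd_four_pow m)
    obtain ⟨-, f, -, hf⟩ := hS
    exact not_three_dvd_suzuki f (hf ▸ h3)

end CfsgLib.CITAlmost
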