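import Cfsg.Agent.CITAlmost.Basic
import Cfsg.Agent.MinNormal.Factors

/-!
# The nonsolvable groups with two-group involution centralisers are almost simple modulo `O₂`
-/

set_option autoImplicit false
set_option linter.style.haveILetI false

namespace CfsgLib.CITAlmost

open Subgroup
open CfsgLib.CITGroups (IsCIT)

variable {G : Type*} [Group G]

theorem not_isSolvable_quotient [Finite G] (hns : ¬ Group.IsSolvable G) (N : Subgroup G) [N.Normal]
    {p : ℕ} [Fact p.Prime] (hN : IsPGroup p N) : ¬ Group.IsSolvable (G ⧸ N) := fun hq => by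
  haveI : Group.IsNilpotent N := hN.isNilpotent
  exact hns (Group.isSolvable_of_ker_le_range N.subtype (QuotientGroup.mk' N) (hG' := inferInstance)
    (hG'' := hq) (by rw [QuotientGroup.ker_mk', range_subtype]))

theorem pCore_quotient_eq_bot (p : ℕ) [Fact p.Prime] (N : Subgroup G) [N.Normal]
    (hN : N = Cfsg.pCore p G) [Finite G] : Cfsg.pCore p (G ⧸ N) = ⊥ := by
  have hker : IsPGroup p (QuotientGroup.mk' N).ker := by
    rw [QuotientGroup.ker_mk', hN]; exact CfsgLib.LocalStructure.pCore_isPGroup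
  haveI : (Cfsg.pCore p (G ⧸ N)).Normal := CfsgLib.LocalStructure.pCore_normal
  have h1 := (CfsgLib.LocalStructure.pCore_isPGroup (p := p) (G := G ⧸ N)).comap_of_ker_isPGroup _ hker
  have h2 := CfsgLib.LocalStructure.le_pCore h1
  rw [← hN] at h2
  refine (eq_bot_iff_forall _).2 fun q hq => ?_
  obtain ⟨g, rfl⟩ := QuotientGroup.mk_surjective q
  exact (QuotientGroup.eq_one_iff g).2 (h2 (mem_comap.2 (by exact hq)))

/-- A nonsolvable CIT group without normal two-subgroups is almost simple. -/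
theorem exists_socle [Finite G] (h : IsCIT G) (hns : ¬ Group.IsSolvable G)
    (h2 : Cfsg.pCore 2 G = ⊥) :
    ∃ M : Subgroup G, M.Normal ∧ IsSimpleGroup M ∧ ¬ IsMulCommutative M ∧
      centralizer (M : Set G) = ⊥ ∧ ∃ t ∈ M, orderOf t = 2 := by
  haveI := Fact.mk Nat.prime_two
  haveI : Nontrivial G := by
    by_contra hn
    rw [not_nontrivial_iff_subsingleton] at hn
    exact hns inferInstance
  obtain ⟨M, hM, -⟩ := MinNormal.exists_isMinNormal_le (⊤ : Subgroup G) top_ne_bot
  haveI := hM.normal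
  -- a nontrivial normal subgroup has even order
  have heven : ∀ K : Subgroup G, K.Normal → K ≠ ⊥ → ∃ t ∈ K, orderOf t = 2 := by
    intro K hK hK1
    haveI := hK
    by_cases hev : Even (Nat.card K)
    · obtain ⟨t, ht⟩ := exists_prime_orderOf_dvd_card' 2 (even_iff_two_dvd.1 hev)
      exact ⟨t, t.2, by rw [orderOf_coe, ht]⟩
    · exact absurd (eq_bot_of_odd h hns K (Nat.not_even_iff_odd.1 hev)) hK1
  have hnot2 : ¬ IsPGroup 2 M := fun hp =>
    hM.ne_bot (le_bot_iff.1 (h2 ▸ CfsgLib.LocalStructure.le_pCore hp))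
  have hMnc : ¬ IsMulCommutative M := by
    intro hc
    obtain ⟨t, htM, ht⟩ := heven M hM.normal hM.ne_bot
    refine hnot2 fun g => ?_
    obtain ⟨k, hk⟩ := h t ht ⟨g, mem_centralizer_singleton_iff.2
      (congrArg Subtype.val (IsMulCommutative.is_comm.comm g ⟨t, htM⟩))⟩
    exact ⟨k, Subtype.ext (congrArg Subtype.val hk :)⟩
  obtain ⟨T, hT⟩ := MinNormal.exists_isFactor hM
  have hTns : ¬ IsPGroup 2 T := fun hp => by
    haveI := hT.isSimpleGroup hM
    haveI : Group.IsNilpotent T := hp.isNilpotent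
    exact hT.not_commutative hM hMnc ⟨⟨fun a b => IsSimpleGroup.comm_iff_isSolvable.2 inferInstance a b⟩⟩
  -- the only factor
  have hTM : T = M := by
    by_contra hne
    obtain ⟨g, hg⟩ : ∃ g : G, T.map (MulAut.conj g).toMonoidHom ≠ T := by
      by_contra hall
      push Not at hall
      refine hne (le_antisymm hT.le ?_)
      rw [← MinNormal.iSup_factor_eq hM hT]
      exact iSup_le fun g => (hall g).le
    have hU := hT.conj hM g
    obtain ⟨t, htT, ht⟩ : ∃ t ∈ T.map (MulAut.conj g).toMonoidHom, orderOf t = 2 := by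
      have hev : 2 ∣ Nat.card ↥(T.map (MulAut.conj g).toMonoidHom) := by
        by_contra hodd
        haveI := hU.isSimpleGroup hM
        exact hU.not_commutative hM hMnc ⟨⟨fun a b => IsSimpleGroup.comm_iff_isSolvable.2
          (Cfsg.Agent.S0205.result (Nat.odd_iff.2 (Nat.two_dvd_ne_zero.1 hodd))) a b⟩⟩
      obtain ⟨t, ht⟩ := exists_prime_orderOf_dvd_card' 2 hev
      exact ⟨t, t.2, by rw [orderOf_coe, ht]⟩
    refine hTns fun u => ?_
    obtain ⟨k, hk⟩ := h t ht ⟨u, mem_centralizer_singleton_iff.2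
      (hT.commute hU (Ne.symm hg) u.2 htT).eq⟩
    exact ⟨k, Subtype.ext (congrArg Subtype.val hk :)⟩
  refine ⟨M, hM.normal, hTM ▸ hT.isSimpleGroup hM, hMnc, ?_, heven M hM.normal hM.ne_bot⟩
  by_contra hC
  obtain ⟨t, htC, ht⟩ := heven _ inferInstance hC
  refine hnot2 fun m => ?_
  obtain ⟨k, hk⟩ := h t ht ⟨m, mem_centralizer_singleton_iff.2 (mem_centralizer_iff.1 htC m m.2)⟩
  exact ⟨k, Subtype.ext (congrArg Subtype.val hk :)⟩

/-- With one class of involutions in the socle, the outer part is a two-group. -/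
theorem isPGroup_quotient [Finite G] (h : IsCIT G) (M : Subgroup G) [M.Normal] {t : G}
    (htM : t ∈ M) (ht : orderOf t = 2)
    (hone : ∀ s ∈ M, orderOf s = 2 → ∃ m ∈ M, m * t * m⁻¹ = s) : IsPGroup 2 (G ⧸ M) := by
  intro q
  obtain ⟨g, rfl⟩ := QuotientGroup.mk_surjective q
  obtain ⟨m, hm, hmg⟩ := hone (g * t * g⁻¹) (Normal.conj_mem inferInstance t htM g)
    (by rw [← ht]; exact (MulAut.conj g).orderOf_eq t)
  have hc : Commute (m⁻¹ * g) t := by
    show m⁻¹ * g * t = t * (m⁻¹ * g)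
    calc m⁻¹ * g * t = m⁻¹ * (g * t * g⁻¹) * g := by group
      _ = m⁻¹ * (m * t * m⁻¹) * g := by rw [hmg]
      _ = t * (m⁻¹ * g) := by group
  obtain ⟨k, hk⟩ := h t ht ⟨_, mem_centralizer_singleton_iff.2 hc.eq⟩
  refine ⟨k, ?_⟩
  have h1 : (m⁻¹ * g) ^ 2 ^ k = 1 := congrArg Subtype.val hk
  have hg : ((m⁻¹ * g : G) : G ⧸ M) = g := by
    rw [QuotientGroup.mk_mul, (QuotientGroup.eq_one_iff _).2 (M.inv_mem hm), one_mul]
  rw [← hg, ← QuotientGroup.mk_pow, h1, QuotientGroup.mk_one]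

end CfsgLib.CITAlmost
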