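import Cfsg.Agent.CITAlmost.Recognition
import Cfsg.Agent.SuzukiUnique.Main
import Cfsg.Agent.Suzuki.Tori
import Cfsg.Agent.Suzuki.LieModel
import Cfsg.Agent.AutSuzuki.Basic
import Cfsg.Agent.S0346

/-!
# Groups with the prime graph of a Suzuki group

A CIT group whose order is prime to three has a Suzuki group as socle modulo `O₂`, and the outer
automorphism group of a Suzuki group has odd order.
-/

set_option autoImplicit false
set_option linter.style.haveILetI false

namespace CfsgLib.CITAlmost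

open Subgroup
open CfsgLib.CITGroups (IsCIT SEKernel)
open scoped MatrixGroups

universe u

section Equiv

variable {F K : Type*} [Field F] [Field K]

theorem glMapEquiv_mem_sz (φ : F ≃+* K) (e : ℕ) :
    (Cfsg.Lie.Sz F e).map (CfsgLib.Linear.glMapEquiv (n := Fin 4) φ).toMonoidHom ≤ Cfsg.Lie.Sz K e := by
  rw [Cfsg.Lie.Sz, MonoidHom.map_closure]
  refine closure_mono ?_
  rintro _ ⟨g, ⟨hg, hs⟩, rfl⟩
  have hco : ((CfsgLib.Linear.glMapEquiv φ g : GL (Fin 4) K) : Matrix (Fin 4) (Fin 4) K) =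
      (g : Matrix (Fin 4) (Fin 4) F).map φ := rfl
  refine ⟨fun u v => ?_, ?_⟩
  · have hu : u = φ ∘ (φ.symm ∘ u) := funext fun i => (φ.apply_symm_apply _).symm
    have hv : v = φ ∘ (φ.symm ∘ v) := funext fun i => (φ.apply_symm_apply _).symm
    have hmv : ∀ w : Fin 4 → F,
        (Units.coeHom (Matrix (Fin 4) (Fin 4) K) ((CfsgLib.Linear.glMapEquiv φ).toMonoidHom g)).mulVec
          (φ ∘ w) = φ ∘ ((g : Matrix (Fin 4) (Fin 4) F).mulVec w) := fun w => funext fun i =>
      (RingHom.map_mulVec φ.toRingHom _ w i).symm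
    have halt : ∀ a b : Fin 4 → F, Cfsg.Lie.altForm4 (φ ∘ a) (φ ∘ b) = φ (Cfsg.Lie.altForm4 a b) :=
      fun a b => by simp [Cfsg.Lie.altForm4, map_add, map_mul]
    rw [hu, hv, hmv, hmv, halt, halt]
    exact congrArg φ (hg _ _)
  · show Cfsg.Lie.star4 ((CfsgLib.Linear.glMapEquiv φ g : GL (Fin 4) K) : Matrix (Fin 4) (Fin 4) K) = _
    rw [MulEquiv.coe_toMonoidHom, hco]
    have : Cfsg.Lie.star4 ((g : Matrix (Fin 4) (Fin 4) F).map φ) =
        (Cfsg.Lie.star4 (g : Matrix (Fin 4) (Fin 4) F)).map φ := by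
      ext i j; simp [Cfsg.Lie.star4, map_sub, map_mul]
    rw [this, hs]
    ext i j; simp [map_pow]

/-- The Suzuki group only depends on the field up to isomorphism. -/
theorem nonempty_sz_congr (φ : F ≃+* K) (e : ℕ) :
    Nonempty (Cfsg.Lie.Sz F e ≃* Cfsg.Lie.Sz K e) := by
  have h : (Cfsg.Lie.Sz F e).map (CfsgLib.Linear.glMapEquiv (n := Fin 4) φ).toMonoidHom =
      Cfsg.Lie.Sz K e := by
    refine le_antisymm (glMapEquiv_mem_sz φ e) fun g hg => ?_
    exact ⟨(CfsgLib.Linear.glMapEquiv φ).symm g,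
      glMapEquiv_mem_sz φ.symm e ⟨g, hg, rfl⟩,
      (CfsgLib.Linear.glMapEquiv φ).apply_symm_apply g⟩
  exact ⟨((Cfsg.Lie.Sz F e).equivMapOfInjective _
    (CfsgLib.Linear.glMapEquiv φ).injective).trans (MulEquiv.subgroupCongr h)⟩

end Equiv

section Graph

open CfsgLib.Suzuki

variable {F : Type*} [Field F] [Fintype F] {m : ℕ}

/-- The element orders of a Suzuki group. -/
theorem orderOf_cases_sz (hS : SzField F m) (g : Cfsg.Sz F m) :
    orderOf g ∣ 4 ∨ orderOf g ∣ Fintype.card F - 1 ∨ orderOf g ∣ Fintype.card F ^ 2 + 1 := by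
  classical
  by_cases hg : g = 1
  · left; rw [hg, orderOf_one]; exact one_dvd _
  by_cases hp : FixesPoint g
  · obtain ⟨k, h | h⟩ := fixesPoint_cases hS hg hp
    · left
      obtain ⟨a, b, h⟩ := h
      have h4 := Monoid.order_dvd_exponent (⟨_, uniEl_mem hS a b⟩ : uniSub hS)
      rw [Subgroup.orderOf_mk, exponent_uniSub hS] at h4
      rwa [← (MulAut.conj k).orderOf_eq g, MulAut.conj_apply, h]
    · right; left
      obtain ⟨μ, -, h⟩ := h
      rw [← (MulAut.conj k).orderOf_eq g, MulAut.conj_apply, h, ← Fintype.card_units]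
      exact (orderOf_map_dvd _ μ).trans orderOf_dvd_card
  · right; right
    obtain ⟨p, z, hp', hz, hle⟩ := exists_anis_of_not_fixesPoint hS hg hp
    have hzA : IsAnisElt z := by rw [IsAnisElt, hz]; exact hp'
    exact ((orderOf_dvd_card_cT g).trans (card_dvd_of_le hle)).trans (hzA.card_dvd hS)

end Graph

/-- Three divides `|PSL₂(q)|`. -/
theorem three_dvd_card_psl_two (L : Type*) [Field L] [Fintype L] :
    3 ∣ Nat.card (Matrix.ProjectiveSpecialLinearGroup (Fin 2) L) := by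
  refine (Nat.Coprime.dvd_mul_left (Nat.Coprime.coprime_dvd_right
    (Nat.gcd_dvd_left 2 (Fintype.card L - 1)) (by norm_num : Nat.Coprime 3 2))).1 ?_
  rw [CfsgLib.Linear.card_PSL_two_mul]
  generalize hq : Fintype.card L = q
  have hq1 : 1 < q := hq ▸ Fintype.one_lt_card
  rcases (show q % 3 = 0 ∨ q % 3 = 1 ∨ q % 3 = 2 by omega) with h0 | h0
  · exact dvd_mul_of_dvd_left (Nat.dvd_of_mod_eq_zero h0) _
  · refine dvd_mul_of_dvd_right ((Nat.modEq_iff_dvd' (Nat.one_le_pow _ _ (by omega))).1 ?_) _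
    show 1 % 3 = q ^ 2 % 3
    rcases h0 with h0 | h0 <;> rw [Nat.pow_mod, h0]

/-- A group of Suzuki type with a kernel as in the CIT classification is a Suzuki group. -/
theorem isoSuzuki_of_kernel {M : Type u} [Group M] [Finite M] [IsSimpleGroup M] {H : Subgroup M}
    (K : SEKernel H) (h3 : ¬ 3 ∣ Nat.card M) : Cfsg.Lie.IsoSuzuki M := by
  classical
  haveI : Fintype (M ⧸ normalizer (H : Set M)) := Fintype.ofFinite _
  have hZ := K.isZassenhaus
  haveI := hZ.2.1
  obtain ⟨β, hβ⟩ := K.exists_ne_base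
  set α : M ⧸ normalizer (H : Set M) := ((1 : M) : M ⧸ normalizer (H : Set M)) with hα
  have hle : H ≤ MulAction.stabilizer M α := fun x hx =>
    MulAction.mem_stabilizer_iff.2 (K.smul_base_iff.2 (le_normalizer hx))
  have hn : ∀ x ∈ MulAction.stabilizer M α, ∀ y ∈ H, x * y * x⁻¹ ∈ H := fun x hx y hy =>
    K.mem_kernel_conj (K.smul_base_iff.1 (MulAction.mem_stabilizer_iff.1 hx)) hy
  have hfix : ∀ x ∈ H, x ≠ 1 → ∀ c : M ⧸ normalizer (H : Set M), x • c = c → c = α :=
    fun x hx hx1 c hc => by_contra fun hne => hx1 (K.eq_one_of_fix hx hne hc)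
  have huniq : ∀ c : M ⧸ normalizer (H : Set M), c ≠ α → ∀ x y : H,
      (x : M) • c = (y : M) • c → x = y := fun c hc x y h => by
    refine Subtype.ext (inv_mul_eq_one.1 (K.eq_one_of_fix (mul_mem (inv_mem y.2) x.2) hc ?_)).symm
    rw [mul_smul, h, inv_smul_smul]
  have hreg : ∀ c d : M ⧸ normalizer (H : Set M), c ≠ α → d ≠ α →
      ∃! w : H, (w : M) • c = d := fun c d hc hd => by
    obtain ⟨w, hw, hwc⟩ := K.exists_smul_eq hc hd
    exact ⟨⟨w, hw⟩, hwc, fun y hy => huniq c hc y ⟨w, hw⟩ (hy.trans hwc.symm)⟩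
  have hcard : Nat.card H + 1 = Nat.card (M ⧸ normalizer (H : Set M)) := by
    rw [← Finite.card_option]
    refine Nat.card_eq_of_bijective
      (fun o : Option H => (o.elim α fun x => (x : M) • β : M ⧸ normalizer (H : Set M))) ⟨?_, ?_⟩
    · have hne : ∀ x : H, (x : M) • β ≠ α := fun x e => hβ ((MulAction.injective (x : M))
        (e.trans (MulAction.mem_stabilizer_iff.1 (hle x.2)).symm))
      rintro (_ | x) (_ | y) h
      · rfl
      · exact absurd h.symm (hne y)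
      · exact absurd h (hne x)
      · exact congrArg some (huniq β hβ x y h)
    · intro c
      by_cases hc : c = α
      · exact ⟨none, hc.symm⟩
      · obtain ⟨w, hw, hwc⟩ := K.exists_smul_eq hβ hc
        exact ⟨some ⟨w, hw⟩, hwc⟩
  haveI := Fact.mk Nat.prime_two
  have h2 : IsPGroup 2 H := by
    obtain ⟨z, hz, hzo⟩ := K.exists_invol
    obtain ⟨p, k, hp, -, hk⟩ := (isPrimePow_nat_iff _).1 K.isPrimePow_card
    have h2d : 2 ∣ Nat.card H := hzo ▸ Subgroup.orderOf_dvd_natCard _ hz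
    rw [← hk] at h2d
    rw [IsPGroup.iff_card]
    exact ⟨k, by rw [← hk, (Nat.prime_dvd_prime_iff_eq Nat.prime_two hp).1
      (Nat.prime_two.dvd_of_dvd_pow h2d)]⟩
  have hna : ∃ x ∈ H, ∃ y ∈ H, x * y ≠ y * x := by
    by_contra! hcomm
    refine h3 ?_
    rcases CfsgLib.Classification.PSLTwoGeneral.abelian_kernel_cases hZ hle hn hfix hcard hcomm
      with ⟨hpre, hst⟩ | ⟨L, _, _, -, -, -, ⟨e⟩⟩
    · haveI : MulAction.IsPretransitive M (Fin 3 ↪ M ⧸ normalizer (H : Set M)) := hpre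
      have hN := CfsgLib.Perm.Zassenhaus.card_ge_three hZ
      obtain ⟨t⟩ : Nonempty (Fin 3 ↪ M ⧸ normalizer (H : Set M)) :=
        Function.Embedding.nonempty_of_card_le (by simpa using hN)
      have hidx := MulAction.index_stabilizer_of_transitive M t
      rw [hst t, index_bot, Nat.card_eq_fintype_card (α := Fin 3 ↪ _), Fintype.card_embedding_eq,
        Fintype.card_fin] at hidx
      rw [hidx]
      exact (Nat.dvd_factorial (by norm_num) le_rfl).trans (Nat.factorial_dvd_descFactorial _ _)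
    · rw [Nat.card_congr e.toEquiv]
      exact three_dvd_card_psl_two L
  exact CfsgLib.SuzukiUnique.isoSuzuki hZ H hle hn hreg h2 hna

/-- An almost simple group with `2`-group quotient by a socle with odd outer part is simple. -/
theorem eq_top_of_odd_out {Q : Type*} [Group Q] [Finite Q] (M : Subgroup Q) [M.Normal]
    (hC : centralizer (M : Set Q) = ⊥) (hQM : IsPGroup 2 (Q ⧸ M))
    (hodd : Odd (Nat.card (Cfsg.Out M))) : M = ⊤ := by
  refine (eq_top_iff' M).2 fun g => ?_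
  obtain ⟨k, hk⟩ := hQM g
  have hgk : g ^ 2 ^ k ∈ M := (QuotientGroup.eq_one_iff _).1 hk
  let ψ : Q →* Cfsg.Out M := (QuotientGroup.mk' _).comp MulAut.conjNormal
  have hker : ∀ x ∈ M, ψ x = 1 := fun x hx => (QuotientGroup.eq_one_iff _).2
    ⟨⟨x, hx⟩, by ext y; simp [MulAut.conjNormal_apply]⟩
  have h1 : ψ g = 1 := orderOf_eq_one_iff.1 (Nat.eq_one_of_dvd_coprimes
    ((Nat.coprime_two_left.2 (hodd.of_dvd_nat (orderOf_dvd_natCard _))).pow_left k)
    (orderOf_dvd_of_pow_eq_one (by rw [← map_pow, hker _ hgk])) dvd_rfl)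
  obtain ⟨x, hx⟩ := (QuotientGroup.eq_one_iff _).1 h1
  have hmem : (x : Q)⁻¹ * g ∈ centralizer (M : Set Q) := mem_centralizer_iff.2 fun y hy => by
    have := congrArg Subtype.val (DFunLike.congr_fun hx ⟨y, hy⟩)
    simp only [MulAut.conj_apply, Subgroup.coe_mul, InvMemClass.coe_inv,
      MulAut.conjNormal_apply] at this
    calc y * ((x : Q)⁻¹ * g) = (x : Q)⁻¹ * ((x : Q) * y * (x : Q)⁻¹) * g := by group
      _ = (x : Q)⁻¹ * (g * y * g⁻¹) * g := by rw [this]
      _ = (x : Q)⁻¹ * g * y := by group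
  rw [hC, mem_bot, inv_mul_eq_one] at hmem
  exact hmem ▸ x.2

/-- A group with the prime graph of `Sz(q)` is that group modulo `O₂`. -/
theorem suzuki_recognition {F : Type*} [Field F] [Fintype F] {G : Type u} [Group G] [Finite G]
    (hclass : ∀ (M : Type u) [Group M] [Finite M] [IsSimpleGroup M],
      (∃ a b : M, a * b ≠ b * a) → IsCIT M → SimpleList M)
    {m : ℕ} (hm : 1 ≤ m) (hF : Fintype.card F = 2 ^ (2 * m + 1))
    (h : SameGraph (Cfsg.Lie.Sz F (2 ^ (m + 1))) G) :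
    Nonempty (G ⧸ Cfsg.pCore 2 G ≃* Cfsg.Lie.Sz F (2 ^ (m + 1))) := by
  classical
  haveI := Fact.mk Nat.prime_two
  obtain ⟨hpr, hgr⟩ := h
  have hS : CfsgLib.Suzuki.SzField F m := ⟨hm, hF⟩
  set E := CfsgLib.Suzuki.lieSzEquiv hS with hE
  have hcards : ∀ {L : Type} [Field L] [Fintype L] {n : ℕ} (hL : CfsgLib.Suzuki.SzField L n),
      Nat.card (Cfsg.Lie.Sz L (2 ^ (n + 1))) =
        Fintype.card L ^ 2 * (Fintype.card L ^ 2 + 1) * (Fintype.card L - 1) := fun hL => by
    rw [← Nat.card_congr (CfsgLib.Suzuki.lieSzEquiv hL).toEquiv, CfsgLib.Suzuki.card_sz hL]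
  have hcard : Nat.card (Cfsg.Lie.Sz F (2 ^ (m + 1))) =
      Fintype.card F ^ 2 * (Fintype.card F ^ 2 + 1) * (Fintype.card F - 1) := by
    rw [← Nat.card_congr E.toEquiv, CfsgLib.Suzuki.card_sz hS]
  set q := Fintype.card F with hq
  have h8 : 8 ≤ q := hS.eight_le
  have hev : 2 ∣ q := hS.even_card
  have hev2 : 2 ∣ q ^ 2 := dvd_pow hev two_ne_zero
  have hcases : ∀ n : ℕ, (∃ x : Cfsg.Lie.Sz F (2 ^ (m + 1)), orderOf x = n) →
      n ∣ 4 ∨ n ∣ q - 1 ∨ n ∣ q ^ 2 + 1 := by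
    rintro n ⟨x, rfl⟩
    rw [← E.symm.orderOf_eq x]
    exact orderOf_cases_sz hS _
  have hfour : ∀ {r : ℕ}, r.Prime → r ∣ 4 → r = 2 := fun {r} hr h =>
    (Nat.prime_dvd_prime_iff_eq hr Nat.prime_two).1 (hr.dvd_of_dvd_pow (n := 2) h)
  have hiso : ∀ r : ℕ, r.Prime → r ≠ 2 → ¬ ∃ y : G, orderOf y = 2 * r := by
    intro r hr hr2 hy
    rcases hcases _ ((hgr 2 r Nat.prime_two hr (Ne.symm hr2)).2 hy) with h | h | h
    · exact hr2 (hfour hr ((dvd_mul_left r 2).trans h))
    · have := (dvd_mul_right 2 r).trans h; omega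
    · have := (dvd_mul_right 2 r).trans h; omega
  have hcit := isCIT_of_isolated hiso
  have hq16 : 64 ≤ q ^ 2 := by nlinarith
  obtain ⟨a, ha, had⟩ := Nat.exists_prime_and_dvd (n := q ^ 2 + 1) (by omega)
  obtain ⟨b, hb, hbd⟩ := Nat.exists_prime_and_dvd (n := q - 1) (by omega)
  have ha2 : a ≠ 2 := fun e => by subst e; omega
  have hb2 : b ≠ 2 := fun e => by subst e; omega
  have hsub2 : ∀ {c : ℕ}, c.Prime → c ∣ q ^ 2 + 1 → c ∣ q - 1 → c = 2 := fun {c} hc h1 h2 => by
    have h3 : c ∣ q ^ 2 - 1 := h2.trans (by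
      simpa using Nat.sub_dvd_pow_sub_pow q 1 2)
    have := Nat.dvd_sub h1 h3
    rw [show q ^ 2 + 1 - (q ^ 2 - 1) = 2 by omega] at this
    exact (Nat.prime_dvd_prime_iff_eq hc Nat.prime_two).1 this
  have hab : a ≠ b := fun e => ha2 (hsub2 ha had (e ▸ hbd))
  have hprG : ∀ r : ℕ, r.Prime → r ≠ 2 → (r ∣ Nat.card G ↔ r ∣ (q ^ 2 + 1) * (q - 1)) := by
    intro r hr hr2
    rw [← hpr r hr, hcard, mul_assoc]
    refine hr.dvd_mul.trans (or_iff_right fun hd => hr2 ?_)
    have h2 := hr.dvd_of_dvd_pow hd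
    rw [hF] at h2
    exact (Nat.prime_dvd_prime_iff_eq hr Nat.prime_two).1 (hr.dvd_of_dvd_pow h2)
  have hns : ¬ Group.IsSolvable G := by
    refine not_isSolvable_of_three Nat.prime_two ha hb (Ne.symm ha2) (Ne.symm hb2) hab ?_
      ((hprG a ha ha2).2 (had.trans (dvd_mul_right _ _)))
      ((hprG b hb hb2).2 (hbd.trans (dvd_mul_left _ _)))
      (hiso a ha ha2) (hiso b hb hb2) fun hy => ?_
    · refine (hpr 2 Nat.prime_two).1 ?_
      rw [hcard]
      exact dvd_mul_of_dvd_left (dvd_mul_of_dvd_left hev2 _) _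
    · rcases hcases _ ((hgr a b ha hb hab).2 hy) with h | h | h
      · exact ha2 (hfour ha ((dvd_mul_right a b).trans h))
      · exact ha2 (hsub2 ha had ((dvd_mul_right a b).trans h))
      · exact hb2 (hsub2 hb ((dvd_mul_left b a).trans h) hbd)
  have h3G : ¬ 3 ∣ Nat.card G := fun h => by
    have := (hpr 3 Nat.prime_three).2 h
    rw [← Nat.card_congr E.toEquiv] at this
    exact CfsgLib.Suzuki.three_not_dvd hS this
  have hN : IsPGroup 2 (Cfsg.pCore 2 G) := CfsgLib.LocalStructure.pCore_isPGroup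
  have hQ := hcit.quotient (Cfsg.pCore 2 G) hN
  obtain ⟨M, hMn, hMs, hMnc, hMC, t, htM, ht⟩ := exists_socle hQ
    (not_isSolvable_quotient hns _ hN) (pCore_quotient_eq_bot 2 _ rfl)
  haveI := hMn
  haveI := hMs
  have hna : ∃ x y : M, x * y ≠ y * x := by
    by_contra hc
    push Not at hc
    exact hMnc ⟨⟨hc⟩⟩
  have h3M : ¬ 3 ∣ Nat.card M := fun h3 =>
    h3G ((dvd_card_quotient_iff Nat.prime_three (by norm_num)).1
      (h3.trans (card_subgroup_dvd_card M)))
  rcases hclass M hna (hQ.subgroup M) with ⟨K, _, _, -, ⟨e⟩⟩ | ⟨K, _, _, hK, ⟨e⟩⟩ | ⟨H, hH, -⟩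
  · exact absurd (Nat.card_congr e.toEquiv ▸ three_dvd_card_psl_two K) h3M
  · refine absurd ?_ h3M
    have h1 := CfsgLib.Linear.card_PSL_mul (n := Fin 3) (F := K)
    have h2 := CfsgLib.Linear.card_SL_mul (n := Fin 3) (F := K)
    rw [Fintype.card_fin, hK, show Nat.gcd 3 (4 - 1) = 3 by decide] at h1
    rw [hK, Matrix.card_GL_field, Fin.prod_univ_three, hK] at h2
    norm_num at h2
    rw [← Nat.card_eq_fintype_card] at h2
    rw [Nat.card_congr e.toEquiv]
    omega
  · obtain ⟨K, fK, tK, n, hn, hK, ⟨e⟩⟩ := isoSuzuki_of_kernel hH h3M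
    have hSK : CfsgLib.Suzuki.SzField K n := ⟨hn, hK⟩
    haveI : Nontrivial ((↥M) ⧸ normalizer (H : Set M)) :=
      CfsgLib.SEmbed.nontrivial_cosets hH.stronglyEmbedded
    have hone : ∀ s s' : M, orderOf s = 2 → orderOf s' = 2 → IsConj s s' := fun s s' hs hs' =>
      CfsgLib.SEmbed.isConj_invol hH.uf hs hs'
    have hQM := isPGroup_quotient hQ M htM ht fun s hs hso => by
      obtain ⟨c, hc⟩ := isConj_iff.1 (hone ⟨t, htM⟩ ⟨s, hs⟩ (by rwa [Subgroup.orderOf_mk])
        (by rwa [Subgroup.orderOf_mk]))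
      exact ⟨c, c.2, congrArg Subtype.val hc⟩
    have hMtop := eq_top_of_odd_out M hMC hQM (by
      rw [CfsgLib.AutSuzuki.card_out_congr e,
        ← CfsgLib.AutSuzuki.card_out_congr (CfsgLib.Suzuki.lieSzEquiv hSK),
        CfsgLib.AutSuzuki.card_out_sz hSK]
      exact ⟨n, rfl⟩)
    have hMcard : Nat.card M = (Fintype.card K) ^ 2 *
        ((Fintype.card K ^ 2 + 1) * (Fintype.card K - 1)) := by
      rw [Nat.card_congr e.toEquiv, hcards hSK, mul_assoc]
    -- the two sets of odd primes agree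
    have hiff : ∀ r : ℕ, r.Prime → r ≠ 2 →
        (r ∣ (Fintype.card K ^ 2 + 1) * (Fintype.card K - 1) ↔ r ∣ (q ^ 2 + 1) * (q - 1)) := by
      intro r hr hr2
      have hnot : ¬ r ∣ Fintype.card K ^ 2 := fun hd => hr2 (by
        have h2 := hr.dvd_of_dvd_pow hd
        rw [hK] at h2
        exact (Nat.prime_dvd_prime_iff_eq hr Nat.prime_two).1 (hr.dvd_of_dvd_pow h2))
      rw [← hprG r hr hr2, ← dvd_card_quotient_iff hr hr2]
      constructor
      · intro h
        refine dvd_trans ?_ (card_subgroup_dvd_card M)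
        rw [hMcard]
        exact dvd_mul_of_dvd_right h _
      · intro h
        have := dvd_card_socle hQ M hone htM ht hr hr2 h
        rw [hMcard, hr.dvd_mul] at this
        exact this.resolve_left hnot
    have key : ∀ i j : ℕ, 1 ≤ i → (∀ r : ℕ, r.Prime → r ≠ 2 →
        r ∣ ((2 ^ (2 * i + 1)) ^ 2 + 1) * (2 ^ (2 * i + 1) - 1) →
        r ∣ ((2 ^ (2 * j + 1)) ^ 2 + 1) * (2 ^ (2 * j + 1) - 1)) → i ≤ j := by
      intro i j hi hsub
      obtain ⟨r, hr⟩ := exists_primitive (n := 4 * (2 * i + 1)) (by omega) (by omega)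
      have hr2 := hr.two_lt (by omega)
      have hsplit : ∀ f : ℕ, 2 ^ (4 * f) - 1 = (2 ^ (2 * f) + 1) * (2 ^ (2 * f) - 1) := fun f => by
        rw [← Nat.sq_sub_sq, one_pow, ← pow_mul]
        ring_nf
      have h1 : r ∣ (2 ^ (2 * i + 1)) ^ 2 + 1 := by
        have hd := hr.dvd
        rw [hsplit, hr.prime.dvd_mul] at hd
        rcases hd with hd | hd
        · rwa [← pow_mul, mul_comm]
        · have := Nat.le_of_dvd (by omega) (hr.dvd_exponent (by omega) hd)
          omega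
      have h2 : r ∣ 2 ^ (4 * (2 * j + 1)) - 1 := by
        rw [hsplit]
        refine (hsub r hr.prime (by omega) (h1.trans (dvd_mul_right _ _))).trans ?_
        rw [← pow_mul, mul_comm (2 * j + 1) 2]
        exact mul_dvd_mul_left _ (Nat.pow_sub_one_dvd_pow_sub_one 2 (dvd_mul_left _ 2))
      have := Nat.le_of_dvd (by omega) (hr.dvd_exponent (by omega) h2)
      omega
    have hnm : n = m := le_antisymm
      (key n m hn fun r hr hr2 h => hF ▸ (hiff r hr hr2).1 (by rwa [hK]))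
      (key m n hm fun r hr hr2 h => hK ▸ (hiff r hr hr2).2 (by rw [hF]; exact h))
    subst hnm
    obtain ⟨ec⟩ := nonempty_sz_congr (FiniteField.ringEquivOfCardEq (hK.trans hF.symm) : K ≃+* F)
      (2 ^ (n + 1))
    exact ⟨(((MulEquiv.subgroupCongr hMtop).trans Subgroup.topEquiv).symm.trans e).trans ec⟩

end CfsgLib.CITAlmost
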